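import Groth.Agent.SiteBase.Vanishing.Subquot
import Groth.Agent.SiteBase.Top
import Mathlib.Topology.NoetherianSpace
import Mathlib.Topology.KrullDimension

/-!
# Vanishing for subquotients of the constant sheaf on a noetherian space
-/

set_option autoImplicit false
set_option linter.unusedSectionVars false
set_option backward.isDefEq.respectTransparency false

universe u

open CategoryTheory CategoryTheory.Limits Opposite TopologicalSpace
open Groth.Agent.DescentSS.Germ (gm gm_res)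
open Groth.Agent.CompactSub (stMap stMap_gm)

noncomputable section

namespace Groth.Agent.Vanishing

variable {X : TopCat.{u}}

/-- The open complement. -/
abbrev oc (Y : Closeds X) : Opens X := ⟨(Y : Set X)ᶜ, Y.isClosed.isOpen_compl⟩

lemma mem_oc {Y : Closeds X} {x : X} : x ∈ oc Y ↔ x ∉ Y := Iff.rfl

lemma oc_anti {Y Y' : Closeds X} (h : Y' ≤ Y) : oc Y ≤ oc Y' := fun _ hx hx' => hx (h hx')

/-- The integral constant sheaf on a locally closed part, extended by zero. -/
abbrev QY {Y Y' : Closeds X} (h : Y' ≤ Y) : CohTop.Ab X :=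
  Q (ind_le_ind (oc_anti h) (le_refl (⊤ : AddSubgroup ℤ)))

/-- Chains of irreducible closed subsets inside a closed set have bounded length. -/
def DimLE (Y : Closeds X) (d : ℕ) : Prop :=
  ∀ l : LTSeries (IrreducibleCloseds X), (l.last : Set X) ⊆ Y → l.length ≤ d

lemma DimLE.mono {Y Y' : Closeds X} {d : ℕ} (h : Y' ≤ Y) (hd : DimLE Y d) : DimLE Y' d :=
  fun l hl => hd l (hl.trans h)

/-- A proper closed subset of an irreducible closed set has smaller dimension. -/
lemma DimLE.of_lt {Y Y' : Closeds X} {d : ℕ} (hY : IsIrreducible (Y : Set X)) (h : Y' < Y) (hd : DimLE Y d)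
    (hne : (Y' : Set X).Nonempty) : ∃ e, d = e + 1 ∧ DimLE Y' e := by
  let T : IrreducibleCloseds X := ⟨(Y : Set X), hY, Y.isClosed⟩
  have key : ∀ l : LTSeries (IrreducibleCloseds X), (l.last : Set X) ⊆ Y' → l.length + 1 ≤ d := fun l hl => by
    have hlt : l.last < T := lt_of_le_of_ne (fun x hx => h.le (hl hx)) fun e => h.not_ge fun x hx => hl (by
      rw [e]; exact hx)
    have := hd (l.snoc T hlt) (by rw [RelSeries.last_snoc]; exact subset_rfl)
    simpa using this
  obtain ⟨x, hx⟩ := hne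
  let P : IrreducibleCloseds X := ⟨closure {x}, isIrreducible_singleton.closure, isClosed_closure⟩
  have h1 := key (RelSeries.singleton _ P) (closure_minimal (Set.singleton_subset_iff.2 hx) Y'.isClosed)
  obtain ⟨e, rfl⟩ : ∃ e, d = e + 1 := ⟨d - 1, by simp at h1; omega⟩
  exact ⟨e, rfl, fun l hl => by have := key l hl; omega⟩

lemma dimLE_top {d : ℕ} (hd : topologicalKrullDim X ≤ d) : DimLE (⊤ : Closeds X) d := fun l _ => by
  have := (Order.LTSeries.length_le_krullDim l).trans hd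
  exact_mod_cast this

/-- On an irreducible closed set the constant sheaf is flasque. -/
theorem isFlasque_QY_bot {Y : Closeds X} (hY : IsPreirreducible (Y : Set X)) :
    TopCat.Sheaf.IsFlasque (QY (bot_le : ⊥ ≤ Y)) where
  epi {U V} i := by
    classical
    rw [AddCommGrpCat.epi_iff_surjective]
    intro q
    let h := ind_le_ind (oc_anti (bot_le : ⊥ ≤ Y)) (le_refl (⊤ : AddSubgroup ℤ))
    let φ : X → AddSubgroup ℤ := ind (oc Y) ⊤
    let ψ : X → AddSubgroup ℤ := ind (oc (⊥ : Closeds X)) ⊤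
    have hψ : ∀ (n : ℤ) (y : X), n ∈ ψ y := fun n y => by
      show n ∈ ind (oc (⊥ : Closeds X)) ⊤ y
      rw [ind_mem (mem_oc.2 (fun hy : y ∈ (⊥ : Closeds X) => (hy : y ∈ (∅ : Set X)).elim))]
      exact AddSubgroup.mem_top _
    let cs : ∀ (n : ℤ) (W : Opens X), (Q h).obj.obj (op W) := fun n W =>
      ((prQ h).hom.app (op W)).hom (constSec ψ n fun y _ => hψ n y)
    have hcs : ∀ (n : ℤ) (W : Opens X) (x : X) (hx : x ∈ W),
        gm (Q h) x hx (cs n W) = stMap (prQ h) x (gm (sh ψ) x hx (constSec ψ n fun y _ => hψ n y)) :=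
      fun n W x hx => (stMap_gm (prQ h) x hx _).symm
    have hout : ∀ (x : X), x ∉ Y → ∀ c : CohTop.stalk (Q h) x, c = 0 := fun x hx c => by
      obtain ⟨v, rfl⟩ := stMap_prQ_surjective h x c
      rw [stMap_prQ_eq_zero_iff (isSpread_ind _ _), ind_mem (mem_oc.2 hx)]
      exact AddSubgroup.mem_top _
    have hin : ∀ (x : X), x ∈ Y → ∀ (n m : ℤ) (W : Opens X) (hx' : x ∈ W),
        gm (Q h) x hx' (cs n W) = gm (Q h) x hx' (cs m W) → n = m := fun x hx n m W hxW e => by
      rw [hcs, hcs, ← sub_eq_zero, ← map_sub, stMap_prQ_eq_zero_iff (isSpread_ind _ _), map_sub, val_gm, val_gm,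
        ind_notMem (fun hc => mem_oc.1 hc hx), AddSubgroup.mem_bot] at e
      exact sub_eq_zero.1 e
    let W := V.unop
    let T : ℤ → Set X := fun n => {x | ∃ hx : x ∈ W, gm (Q h) x hx q = gm (Q h) x hx (cs n W)}
    have hTo : ∀ n, IsOpen (T n) := fun n => isOpen_iff_forall_mem_open.2 fun x ⟨hx, e⟩ => by
      obtain ⟨O, hxO, a, b, he⟩ := TopCat.Presheaf.germ_eq (C := AddCommGrpCat.{u}) (X := X) (Q h).obj x hx hx q _ e
      refine ⟨O, fun y hy => ⟨a.le hy, ?_⟩, O.2, hxO⟩
      exact (gm_res (Q h) a.le y hy q).symm.trans ((congrArg (gm (Q h) y hy) he).trans (gm_res (Q h) b.le y hy _))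
    have hcov : ∀ x, x ∈ W → ∃ n, x ∈ T n := fun x hx => by
      obtain ⟨v, hv⟩ := stMap_prQ_surjective h x (gm (Q h) x hx q)
      refine ⟨val ψ x v, hx, ?_⟩
      rw [hcs, ← hv]
      exact congrArg (stMap (prQ h) x) (val_injective ψ x (val_gm ψ x hx (constSec ψ (val ψ x v) fun y _ => hψ _ y)).symm)
    obtain ⟨n, hn⟩ : ∃ n, ∀ x, x ∈ W → x ∈ Y → x ∈ T n := by
      by_cases hne : ∃ x₀, x₀ ∈ W ∧ x₀ ∈ Y
      · obtain ⟨x₀, hW₀, hY₀⟩ := hne
        obtain ⟨n, hn⟩ := hcov x₀ hW₀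
        refine ⟨n, fun x hxW hxY => ?_⟩
        by_contra hx
        obtain ⟨m, hm⟩ := hcov x hxW
        obtain ⟨z, hzY, ⟨hz, e₁⟩, ⟨hz', e₂⟩⟩ := hY (T n) (T m) (hTo n) (hTo m) ⟨x₀, hY₀, hn⟩ ⟨x, hxY, hm⟩
        obtain rfl : n = m := hin z hzY n m W hz (e₁.symm.trans e₂)
        exact hx hm
      · exact ⟨0, fun x hxW hxY => absurd ⟨x, hxW, hxY⟩ hne⟩
    refine ⟨cs n U.unop, ?_⟩
    have hres : ((Q h).obj.map i).hom (cs n U.unop) = cs n W :=
      (ConcreteCategory.congr_hom ((prQ h).hom.naturality i) (constSec ψ n fun y _ => hψ n y)).symm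
    refine hres.trans (TopCat.Presheaf.section_ext (C := AddCommGrpCat.{u}) (X := X) (Q h) W _ _ fun x hx => ?_)
    by_cases hxY : x ∈ Y
    · obtain ⟨_, e⟩ := hn x hx hxY
      exact e.symm
    · exact (hout x hxY _).trans (hout x hxY _).symm

/-- Transfer along the comparison of locally closed parts. -/
lemma vanishAbove_QY_of_target {d : ℕ} {Y Y' Z Z' : Closeds X} (h : Y' ≤ Y) (h' : Z' ≤ Z) (hZ : Z ≤ Y) (hZ' : Z' ≤ Y')
    (c₁ : ∀ x, x ∈ Y → x ∉ Y' → x ∈ Z) (c₂ : ∀ x, x ∈ Y' → x ∈ Z → x ∈ Z') (hv : VanishAbove (QY h') d) :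
    VanishAbove (QY h) d := by
  have := isIso_qMap (isSpread_ind (oc Y) ⊤) (isSpread_ind (oc Z) ⊤) (isSpread_ind (oc Y') ⊤)
    (ind_le_ind (oc_anti h) le_rfl) (ind_le_ind (oc_anti h') le_rfl)
    (ind_le_ind (oc_anti hZ) le_rfl) (ind_le_ind (oc_anti hZ') le_rfl) (fun x => ?_) (fun x => ?_)
  · exact hv.of_iso (asIso (qMap (ind_le_ind (oc_anti h) le_rfl) (ind_le_ind (oc_anti h') le_rfl)
      (ind_le_ind (oc_anti hZ) le_rfl) (ind_le_ind (oc_anti hZ') (le_refl (⊤ : AddSubgroup ℤ))))).symm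
  · by_cases hY' : x ∈ Y'
    · rw [ind_notMem (fun hc => mem_oc.1 hc hY')]; exact inf_le_left.trans bot_le
    by_cases hz : x ∈ Z
    · rw [ind_notMem (fun hc => mem_oc.1 hc hz)]; exact inf_le_right.trans bot_le
    · rw [ind_mem (mem_oc.2 fun hy => hz (c₁ x hy hY')) (U := oc Y)]
      exact le_top
  · by_cases hz' : x ∈ Z'
    · rw [ind_notMem (fun hc => mem_oc.1 hc hz')]; exact bot_le
    by_cases hY' : x ∈ Y'
    · rw [ind_mem (mem_oc.2 fun hz => hz' (c₂ x hY' hz)) (U := oc Z)]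
      exact le_top.trans le_sup_right
    · rw [ind_mem (mem_oc.2 hY') (U := oc Y')]
      exact le_top.trans le_sup_left

/-- Vanishing for the constant sheaf on locally closed parts of a noetherian space. -/
theorem vanishAbove_QY [NoetherianSpace X] (Y : Closeds X) :
    ∀ (d : ℕ), DimLE Y d → ∀ (Y' : Closeds X) (h : Y' ≤ Y), VanishAbove (QY h) d := by
  induction Y using WellFoundedLT.induction with
  | ind Y ih =>
    intro d hd Y' h
    rcases eq_or_lt_of_le h with rfl | hlt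
    · exact VanishAbove.of_isZero d (isZero_Q (isSpread_ind _ _) _ le_rfl)
    by_cases hirr : IsPreirreducible (Y : Set X)
    · have hflas : ∀ p, Subsingleton (CohTop.H (QY (bot_le : ⊥ ≤ Y)) (p + 1)) := fun p =>
        haveI := isFlasque_QY_bot hirr
        SiteBase.subsingleton_H_of_isFlasque _ p
      have hne : (Y : Set X).Nonempty := by
        obtain ⟨x, hx, -⟩ := Set.exists_of_ssubset (SetLike.coe_ssubset_coe.2 hlt)
        exact ⟨x, hx⟩
      rcases Set.eq_empty_or_nonempty (Y' : Set X) with hY' | hY'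
      · obtain rfl : Y' = ⊥ := SetLike.coe_injective hY'
        intro p hp
        obtain ⟨k, rfl⟩ := Nat.exists_eq_succ_of_ne_zero (Nat.pos_iff_ne_zero.1 (lt_of_le_of_lt (Nat.zero_le d) hp))
        exact hflas k
      · obtain ⟨e, rfl, hde⟩ := DimLE.of_lt ⟨hne, hirr⟩ hlt hd hY'
        have h₃ := ih Y' hlt e hde ⊥ bot_le
        obtain ⟨w, hw⟩ := shortExact_qMap (isSpread_ind (oc Y) ⊤) (isSpread_ind (oc Y') ⊤)
          (isSpread_ind (oc (⊥ : Closeds X)) ⊤) (ind_le_ind (oc_anti h) (le_refl _))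
          (ind_le_ind (oc_anti (bot_le : ⊥ ≤ Y')) (le_refl _))
        intro p hp
        obtain ⟨k, rfl⟩ := Nat.exists_eq_succ_of_ne_zero (Nat.pos_iff_ne_zero.1 (lt_of_le_of_lt (Nat.zero_le _) hp))
        exact subsingleton_X₁ hw k (h₃ k (Nat.lt_of_succ_lt_succ hp)) (hflas k)
    · rw [isPreirreducible_iff_isClosed_union_isClosed] at hirr
      push Not at hirr
      obtain ⟨A, B, hA, hB, hsub, hnA, hnB⟩ := hirr
      let A' : Closeds X := ⟨A, hA⟩ ⊓ Y
      let B' : Closeds X := ⟨B, hB⟩ ⊓ Y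
      have hA' : A' < Y := lt_of_le_of_ne inf_le_right fun e => hnA fun x hx => by
        have : x ∈ A' := e.symm ▸ hx
        exact this.1
      have hB' : B' < Y := lt_of_le_of_ne inf_le_right fun e => hnB fun x hx => by
        have : x ∈ B' := e.symm ▸ hx
        exact this.1
      let M : Closeds X := A' ⊔ Y'
      have hMY : M ≤ Y := sup_le inf_le_right h
      have hY'M : Y' ≤ M := le_sup_right
      have h₁ : VanishAbove (QY hMY) d := by
        refine vanishAbove_QY_of_target hMY (inf_le_right : M ⊓ B' ≤ B') inf_le_right inf_le_left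
          (fun x hxY hxM => ?_) (fun x hx hx' => ⟨hx, hx'⟩) (ih B' hB' d (hd.mono inf_le_right) _ inf_le_right)
        rcases hsub hxY with hxA | hxB
        · exact absurd (Or.inl ⟨hxA, hxY⟩ : x ∈ M) hxM
        · exact ⟨hxB, hxY⟩
      have h₂ : VanishAbove (QY hY'M) d :=
        vanishAbove_QY_of_target hY'M (inf_le_right : Y' ⊓ A' ≤ A') le_sup_left inf_le_left
          (fun x hxM hxY' => hxM.resolve_right hxY') (fun x hx hx' => ⟨hx, hx'⟩)
          (ih A' hA' d (hd.mono inf_le_right) _ inf_le_right)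
      exact vanishAbove_Q_trans (isSpread_ind (oc Y) ⊤) (isSpread_ind (oc M) ⊤) (isSpread_ind (oc Y') ⊤)
        (ind_le_ind (oc_anti hMY) le_rfl) (ind_le_ind (oc_anti hY'M) le_rfl) h₁ h₂

end Groth.Agent.Vanishing
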