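import Groth.Agent.SiteBase.Vanishing.FreeIso
import Groth.Agent.SiteBase.Top
import Groth.Agent.QcqsColim.Rpush
import Mathlib.CategoryTheory.Subobject.Lattice
import Mathlib.CategoryTheory.Abelian.Subobject
import Mathlib.GroupTheory.Archimedean

/-!
# Vanishing of cohomology from vanishing on free sheaves of quasi-compact opens
-/

set_option autoImplicit false
set_option linter.unusedSectionVars false
set_option backward.isDefEq.respectTransparency false

universe u

open CategoryTheory CategoryTheory.Limits Opposite TopologicalSpace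
open Groth.Agent.DescentSS.Germ (gm gm_res)
open Groth.Agent.CompactSub (stMap stMap_gm)

noncomputable section

namespace Groth.Agent.Vanishing

variable {X : TopCat.{u}}

lemma isSpread_finset_sup {α : Type*} (s : Finset α) (f : α → X → AddSubgroup ℤ) (h : ∀ a ∈ s, IsSpread (f a)) :
    IsSpread (s.sup f) := by
  classical
  induction s using Finset.induction with
  | empty => exact isSpread_bot
  | @insert a s _ ih =>
    rw [Finset.sup_insert]
    exact (h a (Finset.mem_insert_self a s)).sup (ih fun b hb => h b (Finset.mem_insert_of_mem hb))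

variable [CompactSpace X] [PrespectralSpace X] [QuasiSeparatedSpace X]

lemma mono_colimit_desc {Λ : Type u} [SmallCategory Λ] [IsFiltered Λ] (D : Λ ⥤ CohTop.Ab X) (c : Cocone D)
    [∀ i, Mono (c.ι.app i)] : Mono (colimit.desc D c) := by
  haveI : Mono c.ι := NatTrans.mono_of_mono_app _
  haveI : Mono (colim.map c.ι) := inferInstance
  have e : colimit.desc D c = colim.map c.ι ≫ colimit.desc _ (constCocone _ c.pt) :=
    colimit.hom_ext fun j => by simp
  haveI : CategoryTheory.IsConnected Λ := IsFiltered.isConnected _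
  haveI : IsIso (colimit.desc ((Functor.const Λ).obj c.pt) (constCocone _ c.pt)) :=
    (IsColimit.coconePointUniqueUpToIso (colimit.isColimit _) (isColimitConstCocone _ c.pt)).isIso_hom
  rw [e]
  infer_instance

lemma isBasis_goodOpen : Opens.IsBasis {U : Opens X | QcqsColim.GoodOpen U} :=
  Opens.isBasis_iff_nbhd.2 fun {U x} hx => by
    obtain ⟨W, ⟨hWo, hWc⟩, hxW, hWU⟩ :=
      (PrespectralSpace.isTopologicalBasis (X := X)).exists_subset_of_mem_open hx U.isOpen
    exact ⟨⟨W, hWo⟩, ⟨hWc, IsQuasiSeparated.of_quasiSeparatedSpace _⟩, hxW, hWU⟩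

lemma exists_compact_nbhd {U : Opens X} {x : X} (hx : x ∈ U) :
    ∃ W : Opens X, IsCompact (W : Set X) ∧ x ∈ W ∧ W ≤ U := by
  obtain ⟨W, hW, hxW, hWU⟩ := Opens.isBasis_iff_nbhd.1 isBasis_goodOpen hx
  exact ⟨W, hW.1, hxW, hWU⟩

/-- Vanishing passes to filtered colimits. -/
theorem vanishAbove_colimit {Λ : Type u} [SmallCategory Λ] [IsFiltered Λ] (D : Λ ⥤ CohTop.Ab X) (d : ℕ)
    (h : ∀ i, VanishAbove (D.obj i) d) : VanishAbove (colimit D) d := fun p hp => by
  let P : CohTop.Ab X ⥤ AddCommGrpCat.{u} :=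
    (Sheaf.cohomologyPresheafFunctor.{u} (Opens.grothendieckTopology X) p).flip.obj (op (⊤ : Opens X))
  have : PreservesColimitsOfShape Λ P := QcqsColim.preservesColimitsOfShape_cohomologyPresheaf isBasis_goodOpen
    ⟨isCompact_univ, IsQuasiSeparated.of_quasiSeparatedSpace _⟩ Λ p
  have hz : ∀ G : CohTop.Ab X, Subsingleton (CohTop.H G p) ↔ IsZero (P.obj G) := fun G => by
    refine ⟨fun hG => ?_, fun hG => ?_⟩
    · have : Subsingleton (P.obj G) :=
        (show CohTop.HU G p ⊤ ≃+ CohTop.H G p from SiteBase.huTerminalEquiv isTerminalTop G p).toEquiv.subsingleton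
      exact AddCommGrpCat.isZero_of_subsingleton _
    · haveI : Subsingleton (CohTop.HU G p ⊤) := AddCommGrpCat.subsingleton_of_isZero hG
      exact (show CohTop.HU G p ⊤ ≃+ CohTop.H G p from
        SiteBase.huTerminalEquiv isTerminalTop G p).symm.toEquiv.subsingleton
  refine (hz _).2 ((IsZero.iff_id_eq_zero _).2 ?_)
  refine (isColimitOfPreserves P (colimit.isColimit D)).hom_ext fun i => ?_
  exact ((hz _).1 (h i p hp)).eq_of_src _ _

variable {d : ℕ} (hfree : ∀ U : Opens X, IsCompact (U : Set X) → VanishAbove (sh (ind U ⊤)) d)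

/-- The subgroup family of finitely many generators. -/
abbrev genSum (U : Opens X) (σ : Finset (Opens X × ℤ)) : X → AddSubgroup ℤ :=
  σ.sup fun e => ind (e.1 ⊓ U) (AddSubgroup.zmultiples e.2)

lemma genSum_le (U : Opens X) (σ : Finset (Opens X × ℤ)) : genSum U σ ≤ ind U ⊤ :=
  Finset.sup_le fun _ _ => ind_le_ind inf_le_right le_top

lemma isSpread_genSum (U : Opens X) (σ : Finset (Opens X × ℤ)) : IsSpread (genSum U σ) :=
  isSpread_finset_sup σ _ fun _ _ => isSpread_ind _ _

lemma genSum_congr {U W : Opens X} {x : X} (hU : x ∈ U) (hW : x ∈ W) (σ : Finset (Opens X × ℤ)) :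
    genSum U σ x = genSum W σ x := by
  simp only [genSum, Finset.sup_apply]
  refine Finset.sup_congr rfl fun e _ => ?_
  by_cases he : x ∈ e.1
  · rw [ind_mem (show x ∈ e.1 ⊓ U from ⟨he, hU⟩), ind_mem (show x ∈ e.1 ⊓ W from ⟨he, hW⟩)]
  · rw [ind_notMem (fun h : x ∈ e.1 ⊓ U => he h.1), ind_notMem (fun h : x ∈ e.1 ⊓ W => he h.1)]

lemma genSum_mono {U W : Opens X} (h : W ≤ U) (σ : Finset (Opens X × ℤ)) : genSum W σ ≤ genSum U σ :=
  Finset.sup_mono_fun fun _ _ => ind_le_ind (inf_le_inf_left _ h) le_rfl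

lemma stMap_zsmul {A B : CohTop.Ab X} (f : A ⟶ B) (n : ℤ) (x : X) (v : CohTop.stalk A x) :
    stMap (n • f) x v = n • stMap f x v := by
  show ((ClosedEmb.stalkF x).map (n • f)).hom v = _
  rw [Functor.map_zsmul]
  rfl

include hfree in
/-- The base case: a multiple of the unit. -/
theorem vanishAbove_Q_mul {U V : Opens X} (hU : IsCompact (U : Set X)) (hV : IsCompact (V : Set X)) (h : V ≤ U)
    (M : AddSubgroup ℤ) (hle : ind V ⊤ ⊔ ind U M ≤ ind U ⊤) : VanishAbove (Q hle) d := by
  have h0 : VanishAbove (Q (ind_le_ind h (le_refl (⊤ : AddSubgroup ℤ)))) d :=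
    vanishAbove_X₃ (shortExact_Q (ind_le_ind h (le_refl (⊤ : AddSubgroup ℤ)))) d (hfree U hU) (hfree V hV)
  obtain ⟨n, rfl⟩ : ∃ n, M = AddSubgroup.zmultiples n :=
    (Int.subgroup_cyclic M).imp fun n hn => by rw [hn, AddSubgroup.zmultiples_eq_closure]
  by_cases hn : n = 0
  · refine vanishAbove_Q_congr ?_ rfl h0
    subst hn
    rw [AddSubgroup.zmultiples_zero_eq_bot]
    exact (sup_eq_left.2 fun x => by
      by_cases hx : x ∈ U
      · rw [ind_mem hx]; exact bot_le
      · rw [ind_notMem hx]; exact bot_le).symm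
  let h₀ : ind V ⊤ ≤ ind U (⊤ : AddSubgroup ℤ) := ind_le_ind h le_rfl
  have hs := isSpread_ind V (⊤ : AddSubgroup ℤ)
  have hs' := hs.sup (isSpread_ind U (AddSubgroup.zmultiples n))
  let g : Q h₀ ⟶ Q hle := qMap h₀ hle le_sup_left le_rfl
  have hg : ∀ x (v : CohTop.stalk (sh (ind U ⊤)) x),
      stMap g x (stMap (prQ h₀) x v) = 0 ↔ val (ind U ⊤) x v ∈ (ind V ⊤ ⊔ ind U (AddSubgroup.zmultiples n)) x :=
    fun x v => by
      show stMap (qMap h₀ hle le_sup_left le_rfl) x (stMap (prQ h₀) x v) = 0 ↔ _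
      rw [stMap_qMap, stMap_prQ_eq_zero_iff hs', val_inc]
  have w : (n • 𝟙 (Q h₀)) ≫ g = 0 := by
    rw [Preadditive.zsmul_comp, Category.id_comp]
    refine Sheaf.hom_ext (NatTrans.ext (funext fun W => ConcreteCategory.hom_ext _ _ fun t => ?_))
    refine TopCat.Presheaf.section_ext (C := AddCommGrpCat.{u}) (X := X) (Q hle) W.unop _ _ fun x hx => ?_
    refine (stMap_gm (n • g) x hx t).symm.trans (Eq.trans ?_ (stMap_gm (0 : Q h₀ ⟶ Q hle) x hx t))
    rw [stMap_zero_apply]
    obtain ⟨v, hv⟩ := stMap_prQ_surjective h₀ x (gm (Q h₀) x hx t)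
    rw [← hv, stMap_zsmul, ← map_zsmul, ← map_zsmul, hg, map_zsmul]
    by_cases hxU : x ∈ U
    · refine SetLike.le_def.1 le_sup_right (?_ : _ ∈ ind U (AddSubgroup.zmultiples n) x)
      rw [ind_mem hxU, AddSubgroup.mem_zmultiples_iff]
      exact ⟨val (ind U ⊤) x v, by rw [smul_eq_mul, smul_eq_mul, mul_comm]⟩
    · have hv0 := val_mem (ind U ⊤) x v
      rw [ind_notMem hxU, AddSubgroup.mem_bot] at hv0
      rw [hv0, smul_zero]
      exact zero_mem _
  refine vanishAbove_X₃ (shortExact_of_stMap (ShortComplex.mk _ _ w) (fun x => ?_) (fun x c => ?_) fun x c hc => ?_) d h0 h0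
  · refine (injective_iff_map_eq_zero (stMap (n • 𝟙 (Q h₀)) x)).2 fun c hc => ?_
    obtain ⟨v, rfl⟩ := stMap_prQ_surjective h₀ x c
    rw [stMap_zsmul, show stMap (𝟙 (Q h₀)) x (stMap (prQ h₀) x v) = stMap (prQ h₀) x v from
        ((stMap_comp (prQ h₀) (𝟙 _) x v).symm.trans (by rw [Category.comp_id])),
      ← map_zsmul, stMap_prQ_eq_zero_iff hs, map_zsmul] at hc
    refine (stMap_prQ_eq_zero_iff hs h₀ x v).2 ?_
    by_cases hxV : x ∈ V
    · rw [ind_mem hxV]; exact AddSubgroup.mem_top _
    · rw [ind_notMem hxV, AddSubgroup.mem_bot] at hc ⊢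
      exact (smul_eq_zero.1 hc).resolve_left hn
  · obtain ⟨v, rfl⟩ := stMap_prQ_surjective hle x c
    refine ⟨stMap (prQ h₀) x v, (stMap_qMap h₀ hle le_sup_left le_rfl x v).trans (congrArg (stMap (prQ hle) x) ?_)⟩
    exact val_injective _ x (val_inc le_rfl x v)
  · obtain ⟨v, rfl⟩ := stMap_prQ_surjective h₀ x c
    obtain ⟨a, ha, b, hb, hab⟩ := AddSubgroup.mem_sup.1 ((hg x v).1 hc)
    have hb' : ∃ k : ℤ, k • n = b ∧ k ∈ ind U ⊤ x := by
      by_cases hxU : x ∈ U
      · rw [ind_mem hxU, AddSubgroup.mem_zmultiples_iff] at hb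
        obtain ⟨k, hk⟩ := hb
        exact ⟨k, hk, by rw [ind_mem hxU]; exact AddSubgroup.mem_top _⟩
      · rw [ind_notMem hxU, AddSubgroup.mem_bot] at hb
        exact ⟨0, by rw [hb, zero_smul], zero_mem _⟩
    obtain ⟨k, hk, hkU⟩ := hb'
    obtain ⟨u', hu⟩ := exists_val (isSpread_ind U ⊤) x hkU
    refine ⟨stMap (prQ h₀) x u', ?_⟩
    show stMap (n • 𝟙 (Q h₀)) x (stMap (prQ h₀) x u') = stMap (prQ h₀) x v
    rw [stMap_zsmul, show stMap (𝟙 (Q h₀)) x (stMap (prQ h₀) x u') = stMap (prQ h₀) x u' from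
        ((stMap_comp (prQ h₀) (𝟙 _) x u').symm.trans (by rw [Category.comp_id])),
      ← map_zsmul, ← sub_eq_zero, ← map_sub, stMap_prQ_eq_zero_iff hs, map_sub, map_zsmul, hu, ← hab, ← hk]
    rw [smul_eq_mul, smul_eq_mul, mul_comm, sub_add_cancel_right]
    exact neg_mem ha

include hfree in
/-- Vanishing for quotients by finitely generated subsheaves. -/
theorem vanishAbove_Q_genSum (σ : Finset (Opens X × ℤ)) (hσ : ∀ e ∈ σ, IsCompact (e.1 : Set X)) :
    ∀ (U V : Opens X), IsCompact (U : Set X) → IsCompact (V : Set X) → V ≤ U → ∀ (M : AddSubgroup ℤ)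
      (hle : ind V ⊤ ⊔ ind U M ⊔ genSum U σ ≤ ind U ⊤), VanishAbove (Q hle) d := by
  classical
  induction σ using Finset.induction with
  | empty =>
    intro U V hU hV h M hle
    refine vanishAbove_Q_congr ?_ rfl (vanishAbove_Q_mul hfree hU hV h M (le_sup_left.trans hle))
    rw [genSum, Finset.sup_empty, sup_bot_eq]
  | @insert e σ _ ih =>
    intro U V hU hV h M hle
    have hσ' : ∀ a ∈ σ, IsCompact (a.1 : Set X) := fun a ha => hσ a (Finset.mem_insert_of_mem ha)
    let N := AddSubgroup.zmultiples e.2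
    let W : Opens X := V ⊔ (e.1 ⊓ U)
    have hW : IsCompact (W : Set X) :=
      hV.union (QuasiSeparatedSpace.inter_isCompact _ _ e.1.isOpen (hσ e (Finset.mem_insert_self e σ)) U.isOpen hU)
    have hWU : W ≤ U := sup_le h inf_le_right
    let a := ind V ⊤ ⊔ ind U M ⊔ genSum U (insert e σ)
    let b := ind W ⊤ ⊔ ind U M ⊔ genSum U σ
    have ha : a = ind V ⊤ ⊔ ind U M ⊔ (ind (e.1 ⊓ U) N ⊔ genSum U σ) := by
      show _ ⊔ Finset.sup _ _ = _
      rw [Finset.sup_insert]
    have hb : b ≤ ind U ⊤ :=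
      sup_le (sup_le (ind_le_ind hWU le_rfl) (ind_le_ind le_rfl le_top)) (genSum_le U σ)
    have hab : a ≤ b := by
      rw [ha]
      refine sup_le (sup_le ?_ ?_) (sup_le ?_ le_sup_right)
      · exact le_sup_of_le_left (le_sup_of_le_left (ind_le_ind le_sup_left le_rfl))
      · exact le_sup_of_le_left le_sup_right
      · exact le_sup_of_le_left (le_sup_of_le_left (ind_le_ind le_sup_right le_top))
    have sa : IsSpread a :=
      ((isSpread_ind V ⊤).sup (isSpread_ind U M)).sup (isSpread_genSum U _)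
    have sb : IsSpread b := ((isSpread_ind W ⊤).sup (isSpread_ind U M)).sup (isSpread_genSum U σ)
    refine vanishAbove_Q_trans sa sb (isSpread_ind U ⊤) hab hb ?_ (ih hσ' U W hU hW hWU M hb)
    let a₁ := ind V ⊤ ⊔ ind W (M ⊔ N) ⊔ genSum W σ
    have ha₁ : a₁ ≤ ind W ⊤ :=
      sup_le (sup_le (ind_le_ind le_sup_left le_rfl) (ind_le_ind le_rfl le_top)) (genSum_le W σ)
    have sa₁ : IsSpread a₁ := ((isSpread_ind V ⊤).sup (isSpread_ind W _)).sup (isSpread_genSum W σ)
    refine vanishAbove_Q_of_stalks sa₁ sa (isSpread_ind W ⊤) ha₁ hab ?_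
      (le_sup_of_le_left le_sup_left) (fun x => ?_) (fun x => ?_) (ih hσ' W V hW hV le_sup_left (M ⊔ N) ha₁)
    · rw [ha]
      refine sup_le (sup_le (le_sup_of_le_left le_sup_left) fun x => ?_)
        (le_sup_of_le_right (le_sup_of_le_right (genSum_mono hWU σ)))
      by_cases hx : x ∈ W
      · rw [ind_mem hx]
        by_cases hxV : x ∈ V
        · simp only [Pi.sup_apply, ind_mem hxV, top_sup_eq, le_top]
        · have hxe : x ∈ e.1 ⊓ U := hx.resolve_left hxV
          simp only [Pi.sup_apply, ind_mem hxe, ind_mem hxe.2]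
          exact sup_le (le_sup_of_le_left le_sup_right) (le_sup_of_le_right le_sup_left)
      · rw [ind_notMem hx]; exact bot_le
    · by_cases hx : x ∈ W
      · rw [ha]
        simp only [a₁, Pi.sup_apply, ind_mem hx, top_inf_eq, ind_mem (hWU hx)]
        rw [genSum_congr (hWU hx) hx]
        refine sup_le (sup_le (le_sup_of_le_left le_sup_left) (le_sup_of_le_left (le_sup_of_le_right le_sup_left)))
          (sup_le ?_ le_sup_right)
        by_cases hxe : x ∈ e.1 ⊓ U
        · rw [ind_mem hxe]; exact le_sup_of_le_left (le_sup_of_le_right le_sup_right)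
        · rw [ind_notMem hxe]; exact bot_le
      · rw [ind_notMem hx]; exact inf_le_left.trans bot_le
    · rw [ha]
      simp only [b, Pi.sup_apply]
      exact sup_le (sup_le le_sup_left (le_sup_of_le_right (le_sup_of_le_left le_sup_right)))
        (le_sup_of_le_right (le_sup_of_le_right le_sup_right))

/-- The kernel family of a map out of the constant sheaf on an open. -/
def kerFam {U : Opens X} {T : CohTop.Ab X} (π : sh (ind U ⊤) ⟶ T) (x : X) : AddSubgroup ℤ :=
  (stMap π x).ker.map (val (ind U ⊤) x)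

lemma isSpread_kerFam {U : Opens X} {T : CohTop.Ab X} (π : sh (ind U ⊤) ⟶ T) : IsSpread (kerFam π) := by
  intro x n hn
  obtain ⟨v, hv, rfl⟩ := AddSubgroup.mem_map.1 hn
  obtain ⟨O, hx, s, rfl⟩ := TopCat.Presheaf.exists_germ_eq (C := AddCommGrpCat.{u}) (X := X) (sh (ind U ⊤)).obj v
  have h0 : gm T x hx ((π.hom.app (op O)).hom s) = gm T x hx 0 :=
    (stMap_gm π x hx s).symm.trans ((AddMonoidHom.mem_ker.1 hv).trans (map_zero _).symm)
  obtain ⟨O', hxO', a, b, he⟩ := TopCat.Presheaf.germ_eq (C := AddCommGrpCat.{u}) (X := X) T.obj x hx hx _ _ h0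
  obtain ⟨C, hC, hxC, hc⟩ := (IsLocallyConstant.iff_exists_open _).1 s.2.1 ⟨x, hx⟩
  refine ⟨O' ⊓ ⟨Subtype.val '' C, O.2.isOpenMap_subtype_val C hC⟩, ⟨hxO', _, hxC, rfl⟩, fun y hy => ?_⟩
  obtain ⟨hy', z, hz, rfl⟩ := hy
  refine AddSubgroup.mem_map.2 ⟨gm (sh (ind U ⊤)) z.1 z.2 s, AddMonoidHom.mem_ker.2 ?_, ?_⟩
  · refine (stMap_gm π z.1 z.2 s).trans ((gm_res T a.le z.1 hy' _).symm.trans ?_)
    exact ((congrArg (gm T z.1 hy') he).trans (gm_res T b.le z.1 hy' 0)).trans (map_zero _)
  · show val (ind U ⊤) z.1 (gm (sh (ind U ⊤)) z.1 z.2 s) = val (ind U ⊤) x (gm (sh (ind U ⊤)) x hx s)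
    rw [val_gm, val_gm]
    exact congrArg ULift.down (hc z hz)

include hfree in
/-- Quotients of the constant sheaf on a quasi-compact open. -/
theorem vanishAbove_of_epi {U : Opens X} (hU : IsCompact (U : Set X)) {T : CohTop.Ab X}
    (π : sh (ind U ⊤) ⟶ T) [Epi π] : VanishAbove T d := by
  classical
  let φ := kerFam π
  have hφU : φ ≤ ind U ⊤ := fun x n hn => by
    obtain ⟨v, -, rfl⟩ := AddSubgroup.mem_map.1 hn
    exact val_mem _ x v
  have hker : ∀ x v, stMap π x v = 0 ↔ val (ind U ⊤) x v ∈ φ x := fun x v =>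
    ⟨fun h => AddSubgroup.mem_map.2 ⟨v, h, rfl⟩, fun h => by
      obtain ⟨v', hv', e⟩ := AddSubgroup.mem_map.1 h
      rw [← val_injective _ x e]; exact hv'⟩
  have w : inc hφU ≫ π = 0 := by
    refine Sheaf.hom_ext (NatTrans.ext (funext fun W => ConcreteCategory.hom_ext _ _ fun t => ?_))
    refine TopCat.Presheaf.section_ext (C := AddCommGrpCat.{u}) (X := X) T W.unop _ _ fun x hx => ?_
    refine (stMap_gm (inc hφU ≫ π) x hx t).symm.trans (Eq.trans ?_ (stMap_gm (0 : sh φ ⟶ T) x hx t))
    rw [stMap_zero_apply, stMap_comp, hker, val_inc]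
    exact val_mem φ x _
  have hS : (ShortComplex.mk _ _ w).ShortExact := by
    refine shortExact_of_stMap _ (fun x => stMap_injective_inc hφU x) (fun x => ?_) fun x v hv => ?_
    · have : Epi ((ClosedEmb.stalkF x).map π) :=
        haveI := CompactSub.preservesFiniteColimits_stalkF x
        inferInstance
      exact (AddCommGrpCat.epi_iff_surjective _).1 this
    · obtain ⟨a, ha⟩ := exists_val (isSpread_kerFam π) x ((hker x v).1 hv)
      exact ⟨a, val_injective _ x ((val_inc hφU x a).trans ha)⟩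
  intro p hp
  refine subsingleton_X₃ hS p (hfree U hU p hp) ?_
  let Λ : Type u := Finset {e : Opens X × ℤ // IsCompact (e.1 : Set X) ∧ ∀ y ∈ e.1, e.2 ∈ φ y}
  let fam : Λ → X → AddSubgroup ℤ := fun σ => genSum U (σ.image Subtype.val)
  have hfam : ∀ σ, fam σ ≤ φ := fun σ => Finset.sup_le fun e he x => by
    obtain ⟨e', -, rfl⟩ := Finset.mem_image.1 he
    by_cases hx : x ∈ e'.1.1 ⊓ U
    · rw [ind_mem hx, AddSubgroup.zmultiples_le]; exact e'.2.2 x hx.1
    · rw [ind_notMem hx]; exact bot_le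
  let D : Λ ⥤ CohTop.Ab X :=
    { obj := fun σ => sh (fam σ)
      map := fun {σ τ} h => inc (Finset.sup_mono (Finset.image_mono _ h.le))
      map_id := fun σ => rfl
      map_comp := fun _ _ => rfl }
  let c : Cocone D := { pt := sh φ, ι := { app := fun σ => inc (hfam σ), naturality := fun _ _ _ => rfl } }
  have hvan : VanishAbove (colimit D) (p) := vanishAbove_colimit D p fun σ q hq => by
    obtain ⟨k, rfl⟩ := Nat.exists_eq_succ_of_ne_zero (Nat.pos_iff_ne_zero.1 (lt_of_le_of_lt (Nat.zero_le _) hq))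
    have hk : d < k := lt_of_lt_of_le hp (Nat.lt_succ_iff.1 hq)
    have hle : fam σ ≤ ind U ⊤ := genSum_le U _
    refine subsingleton_X₁ (shortExact_Q hle) k ?_ (hfree U hU (k + 1) (hk.trans (Nat.lt_succ_self k)))
    refine vanishAbove_Q_congr (h₁ := hle) ?_ rfl (vanishAbove_Q_genSum hfree (σ.image Subtype.val)
      (fun e he => by obtain ⟨e', -, rfl⟩ := Finset.mem_image.1 he; exact e'.2.1) U ⊥ hU isCompact_empty bot_le ⊥
      (sup_le (sup_le (ind_le_ind bot_le le_rfl) (ind_le_ind le_rfl le_top)) (genSum_le U _))) k hk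
    rw [ind_bot_open, show ind U (⊥ : AddSubgroup ℤ) = ⊥ from funext fun x => by
      by_cases hx : x ∈ U
      · exact ind_mem hx
      · exact ind_notMem hx, bot_sup_eq, bot_sup_eq]
  have hiso : IsIso (colimit.desc D c) := by
    have : ∀ σ, Mono (c.ι.app σ) := fun σ => mono_inc (hfam σ)
    have hm : Mono (colimit.desc D c) := mono_colimit_desc D c
    refine isIso_of_stalkMap _ fun x => ?_
    rw [ConcreteCategory.isIso_iff_bijective]
    refine ⟨?_, fun v => ?_⟩
    · have : Mono ((ClosedEmb.stalkF x).map (colimit.desc D c)) :=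
        haveI := CompactSub.preservesFiniteLimits_stalkF x
        inferInstance
      exact (AddCommGrpCat.mono_iff_injective _).1 this
    · revert v
      show ∀ v : CohTop.stalk (sh φ) x, ∃ a, stMap (colimit.desc D c) x a = v
      intro v
      have hφx := val_mem φ x v
      by_cases hxU : x ∈ U
      · obtain ⟨O, hxO, hO⟩ := isSpread_kerFam π x _ hφx
        obtain ⟨W, hW, hxW, hWO⟩ := exists_compact_nbhd (U := O ⊓ U) ⟨hxO, hxU⟩
        let σ : Λ := {⟨(W, val φ x v), hW, fun y hy => hO y (hWO hy).1⟩}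
        have hmem : val φ x v ∈ fam σ x := by
          have h1 : ind (W ⊓ U) (AddSubgroup.zmultiples (val φ x v)) ≤ fam σ :=
            Finset.le_sup (f := fun e : Opens X × ℤ => ind (e.1 ⊓ U) (AddSubgroup.zmultiples e.2))
              (Finset.mem_image_of_mem Subtype.val (Finset.mem_singleton_self
                (⟨(W, val φ x v), hW, fun y hy => hO y (hWO hy).1⟩ : {e : Opens X × ℤ // IsCompact (e.1 : Set X) ∧ ∀ y ∈ e.1, e.2 ∈ φ y})))
          refine h1 x ?_
          rw [ind_mem (show x ∈ W ⊓ U from ⟨hxW, hxU⟩)]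
          exact AddSubgroup.mem_zmultiples _
        obtain ⟨a, ha⟩ := exists_val (isSpread_genSum U _) x hmem
        refine ⟨stMap (colimit.ι D σ) x a, (stMap_comp (colimit.ι D σ) (colimit.desc D c) x a).symm.trans ?_⟩
        rw [colimit.ι_desc]
        exact val_injective φ x ((val_inc (hfam σ) x a).trans ha)
      · have h0 : val φ x v = 0 := by
          have := hφU x hφx
          rwa [ind_notMem hxU, AddSubgroup.mem_bot] at this
        exact ⟨0, (map_zero _).trans (val_injective φ x ((map_zero _).trans h0.symm))⟩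
  exact hvan.of_iso (@asIso _ _ _ _ (colimit.desc D c) hiso) (p + 1) (Nat.lt_succ_self p)

include hfree in
/-- Vanishing for all sheaves. -/
theorem vanishAbove_all (F : CohTop.Ab X) : VanishAbove F d := by
  classical
  let E : Type u := Σ U : {U : Opens X // IsCompact (U : Set X)}, F.obj.obj (op U.1)
  choose g hg using fun e : E => exists_gen F (V := e.1.1) e.2
  let G : Finset E → Subobject F := fun σ => σ.sup fun e => imageSubobject (g e)
  have hG : ∀ σ, VanishAbove (G σ : CohTop.Ab X) d := fun σ => by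
    induction σ using Finset.induction with
    | empty => exact VanishAbove.of_isZero d (IsZero.of_iso (isZero_zero _) Subobject.botCoeIsoZero)
    | @insert e σ _ ih =>
      have hle : G σ ≤ G (insert e σ) := Finset.sup_mono (Finset.subset_insert e σ)
      have hB : imageSubobject (g e) ≤ G (insert e σ) :=
        Finset.le_sup (f := fun e => imageSubobject (g e)) (Finset.mem_insert_self e σ)
      let S := ShortComplex.mk ((G σ).ofLE _ hle) (cokernel.π ((G σ).ofLE _ hle)) (cokernel.condition _)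
      have hS : S.ShortExact := { exact := ShortComplex.exact_of_g_is_cokernel _ (cokernelIsCokernel _) }
      refine vanishAbove_X₂ hS d ih ?_
      have : Epi (factorThruImageSubobject (g e) ≫ (imageSubobject (g e)).ofLE _ hB ≫ cokernel.π ((G σ).ofLE _ hle)) := by
        refine Preadditive.epi_of_cancel_zero _ fun {T} h hh => ?_
        simp only [Category.assoc] at hh
        replace hh := zero_of_epi_comp (factorThruImageSubobject (g e)) hh
        let h' : ((G (insert e σ) : Subobject F) : CohTop.Ab X) ⟶ T := cokernel.π ((G σ).ofLE _ hle) ≫ h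
        have e1 : G σ ≤ Subobject.mk (kernel.ι h' ≫ (G (insert e σ)).arrow) :=
          Subobject.le_mk_of_comm (kernel.lift h' ((G σ).ofLE _ hle) (cokernel.condition_assoc _ _ |>.trans zero_comp))
            (by rw [kernel.lift_ι_assoc, Subobject.ofLE_arrow])
        have e2 : imageSubobject (g e) ≤ Subobject.mk (kernel.ι h' ≫ (G (insert e σ)).arrow) :=
          Subobject.le_mk_of_comm (kernel.lift h' ((imageSubobject (g e)).ofLE _ hB) hh)
            (by rw [kernel.lift_ι_assoc, Subobject.ofLE_arrow])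
        have e3 : G (insert e σ) ≤ Subobject.mk (kernel.ι h' ≫ (G (insert e σ)).arrow) := by
          show (insert e σ).sup _ ≤ _
          rw [Finset.sup_insert]
          exact sup_le e2 e1
        obtain ⟨r, hr⟩ : ∃ r, r ≫ kernel.ι h' ≫ (G (insert e σ)).arrow = (G (insert e σ)).arrow :=
          ⟨Subobject.ofLEMk _ _ e3, Subobject.ofLEMk_comp e3⟩
        have hid : r ≫ kernel.ι h' = 𝟙 _ := by
          rw [← cancel_mono (G (insert e σ)).arrow, Category.assoc, hr, Category.id_comp]
        have h0 : cokernel.π ((G σ).ofLE _ hle) ≫ h = 0 := by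
          show h' = 0
          rw [← Category.id_comp h', ← hid, Category.assoc, kernel.condition, comp_zero]
        exact zero_of_epi_comp (cokernel.π ((G σ).ofLE _ hle)) h0
      exact vanishAbove_of_epi hfree e.1.2 (factorThruImageSubobject (g e) ≫ (imageSubobject (g e)).ofLE _ hB ≫ cokernel.π ((G σ).ofLE _ hle))
  let D : Finset E ⥤ CohTop.Ab X :=
    { obj := fun σ => (G σ : CohTop.Ab X)
      map := fun {σ τ} h => (G σ).ofLE (G τ) (Finset.sup_mono h.le)
      map_id := fun σ => Subobject.ofLE_refl _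
      map_comp := fun _ _ => (Subobject.ofLE_comp_ofLE _ _ _ _ _).symm }
  let c : Cocone D :=
    { pt := F
      ι := { app := fun σ => (G σ).arrow
             naturality := fun σ τ h => (Subobject.ofLE_arrow _).trans (Category.comp_id _).symm } }
  have hiso : IsIso (colimit.desc D c) := by
    have : ∀ σ, Mono (c.ι.app σ) := fun σ => inferInstanceAs (Mono (G σ).arrow)
    have hm : Mono (colimit.desc D c) := mono_colimit_desc D c
    refine isIso_of_stalkMap _ fun x => ?_
    rw [ConcreteCategory.isIso_iff_bijective]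
    refine ⟨?_, fun v => ?_⟩
    · have : Mono ((ClosedEmb.stalkF x).map (colimit.desc D c)) :=
        haveI := CompactSub.preservesFiniteLimits_stalkF x
        inferInstance
      exact (AddCommGrpCat.mono_iff_injective _).1 this
    · obtain ⟨O, hxO, t, rfl⟩ := TopCat.Presheaf.exists_germ_eq (C := AddCommGrpCat.{u}) (X := X) F.obj v
      obtain ⟨W, hW, hxW, hWO⟩ := exists_compact_nbhd hxO
      let e : E := ⟨⟨W, hW⟩, (F.obj.map (homOfLE hWO).op).hom t⟩
      obtain ⟨w, hw⟩ := hg e x hxW
      have hle : imageSubobject (g e) ≤ G {e} := le_of_eq (Finset.sup_singleton (f := fun e => imageSubobject (g e))).symm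
      refine ⟨stMap (colimit.ι D {e}) x (stMap (factorThruImageSubobject (g e) ≫ (imageSubobject (g e)).ofLE _ hle) x w), ?_⟩
      show stMap (colimit.desc D c) x _ = gm F x hxO t
      rw [← stMap_comp, colimit.ι_desc, ← stMap_comp, Category.assoc,
        show (imageSubobject (g e)).ofLE _ hle ≫ c.ι.app {e} = (imageSubobject (g e)).arrow from Subobject.ofLE_arrow hle,
        imageSubobject_arrow_comp, hw]
      exact gm_res F hWO x hxW t
  exact (vanishAbove_colimit D d hG).of_iso (@asIso _ _ _ _ (colimit.desc D c) hiso)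

end Groth.Agent.Vanishing
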