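import Groth.Prelude.Def_CohTop
import Groth.Agent.SiteBase.DescentSS.GermFam
import Groth.Agent.SiteBase.CompactSub.ProperStalk
import Mathlib.Topology.LocallyConstant.Basic
import Mathlib.Topology.Sheaves.SheafCondition.UniqueGluing
import Mathlib.Topology.Sheaves.AddCommGrpCat

/-!
# Subsheaves and subquotients of the constant sheaf `ℤ`, described by their stalks
-/

set_option autoImplicit false
set_option linter.unusedSectionVars false
set_option backward.isDefEq.respectTransparency false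

universe u

open CategoryTheory CategoryTheory.Limits Opposite TopologicalSpace
open Groth.Agent.DescentSS.Germ (gm gm_res)

noncomputable section

namespace Groth.Agent.Vanishing

variable {X : TopCat.{u}}

/-- A family of subgroups of `ℤ` in which membership spreads to neighbourhoods. -/
def IsSpread (φ : X → AddSubgroup ℤ) : Prop :=
  ∀ (x : X) (n : ℤ), n ∈ φ x → ∃ W : Opens X, x ∈ W ∧ ∀ y ∈ W, n ∈ φ y

variable (φ : X → AddSubgroup ℤ)

/-- Locally constant functions with values in the family. -/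
def secs (U : Opens X) : AddSubgroup (U → ULift.{u} ℤ) where
  carrier := {s | IsLocallyConstant s ∧ ∀ x : U, (s x).down ∈ φ x.1}
  zero_mem' := ⟨IsLocallyConstant.const 0, fun x => zero_mem _⟩
  add_mem' ha hb := ⟨ha.1.add hb.1, fun x => add_mem (ha.2 x) (hb.2 x)⟩
  neg_mem' ha := ⟨ha.1.neg, fun x => neg_mem (ha.2 x)⟩

/-- The presheaf. -/
def pre : (Opens X)ᵒᵖ ⥤ AddCommGrpCat.{u} where
  obj U := AddCommGrpCat.of (secs φ U.unop)
  map {U V} i := AddCommGrpCat.ofHom (AddMonoidHom.mk'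
    (fun s => ⟨fun x => s.1 ⟨x.1, i.unop.le x.2⟩,
      s.2.1.comp_continuous (continuous_subtype_val.subtype_mk _), fun x => s.2.2 ⟨x.1, i.unop.le x.2⟩⟩)
    fun a b => rfl)
  map_id U := rfl
  map_comp i j := rfl

theorem isSheaf_pre : TopCat.Presheaf.IsSheaf (pre φ) := by
  rw [TopCat.Presheaf.isSheaf_iff_isSheafUniqueGluing]
  intro ι U sf hsf
  have key : ∀ (i j : ι) (x : X) (hi : x ∈ U i) (hj : x ∈ U j), (sf i).1 ⟨x, hi⟩ = (sf j).1 ⟨x, hj⟩ :=
    fun i j x hi hj => congrFun (congrArg Subtype.val (hsf i j)) ⟨x, hi, hj⟩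
  have hx : ∀ x : ↥(iSup U), ∃ i, x.1 ∈ U i := fun x => Opens.mem_iSup.1 x.2
  let g : ↥(iSup U) → ULift.{u} ℤ := fun x => (sf (hx x).choose).1 ⟨x.1, (hx x).choose_spec⟩
  have hg : ∀ (i : ι) (x : ↥(iSup U)) (hi : x.1 ∈ U i), g x = (sf i).1 ⟨x.1, hi⟩ :=
    fun i x hi => key _ i x.1 _ hi
  refine ⟨⟨g, ?_, fun x => (sf (hx x).choose).2.2 ⟨x.1, (hx x).choose_spec⟩⟩, fun i => ?_, fun t ht => ?_⟩
  · rw [IsLocallyConstant.iff_exists_open]
    intro x
    obtain ⟨i, hi⟩ := hx x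
    obtain ⟨O, hO, hxO, hc⟩ := (IsLocallyConstant.iff_exists_open _).1 (sf i).2.1 ⟨x.1, hi⟩
    refine ⟨Subtype.val ⁻¹' (Subtype.val '' O), ?_, ⟨_, hxO, rfl⟩, ?_⟩
    · exact ((U i).2.isOpenMap_subtype_val O hO).preimage continuous_subtype_val
    · rintro y ⟨z, hz, hzy⟩
      have hy : y.1 ∈ U i := hzy ▸ z.2
      rw [hg i y hy, hg i x hi, show (⟨y.1, hy⟩ : U i) = z from Subtype.ext hzy.symm]
      exact hc z hz
  · exact Subtype.ext (funext fun x => hg i ⟨x.1, _⟩ x.2)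
  · exact Subtype.ext (funext fun x => congrFun (congrArg Subtype.val (ht (hx x).choose)) ⟨x.1, (hx x).choose_spec⟩)

/-- The sheaf. -/
def sh : CohTop.Ab X := ⟨pre φ, isSheaf_pre φ⟩

/-- The cocone of values at a point. -/
def valCocone (x : X) : Cocone ((OpenNhds.inclusion x).op ⋙ (sh φ).obj) where
  pt := AddCommGrpCat.of (ULift.{u} ℤ)
  ι :=
    { app := fun U => AddCommGrpCat.ofHom (AddMonoidHom.mk'
        (fun s : secs φ U.unop.1 => s.1 ⟨x, U.unop.2⟩) fun a b => rfl)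
      naturality := fun U V i => rfl }

/-- Values of germs. -/
def val (x : X) : CohTop.stalk (sh φ) x →+ ℤ :=
  AddEquiv.ulift.toAddMonoidHom.comp (colimit.desc _ (valCocone φ x)).hom

lemma val_gm (x : X) {U : Opens X} (hx : x ∈ U) (s : (sh φ).obj.obj (op U)) :
    val φ x (gm (sh φ) x hx s) = (s.1 ⟨x, hx⟩).down :=
  congrArg ULift.down (ConcreteCategory.congr_hom (colimit.ι_desc (valCocone φ x) (op (⟨U, hx⟩ : OpenNhds x))) s)

lemma val_mem (x : X) (v : CohTop.stalk (sh φ) x) : val φ x v ∈ φ x := by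
  obtain ⟨U, hx, s, rfl⟩ := TopCat.Presheaf.exists_germ_eq (C := AddCommGrpCat.{u}) (X := X) (sh φ).obj v
  exact (val_gm φ x hx s).symm ▸ s.2.2 ⟨x, hx⟩

lemma val_injective (x : X) : Function.Injective (val φ x) := by
  refine (injective_iff_map_eq_zero _).2 fun v hv => ?_
  obtain ⟨U, hx, s, rfl⟩ := TopCat.Presheaf.exists_germ_eq (C := AddCommGrpCat.{u}) (X := X) (sh φ).obj v
  have h0 : (s.1 ⟨x, hx⟩).down = 0 := (val_gm φ x hx s).symm.trans hv
  obtain ⟨O, hO, hxO, hc⟩ := (IsLocallyConstant.iff_exists_open _).1 s.2.1 ⟨x, hx⟩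
  let W : Opens X := ⟨Subtype.val '' O, U.2.isOpenMap_subtype_val O hO⟩
  have hWU : W ≤ U := by rintro _ ⟨z, -, rfl⟩; exact z.2
  have hxW : x ∈ W := ⟨_, hxO, rfl⟩
  refine (gm_res (sh φ) hWU x hxW s).symm.trans ?_
  have : ((sh φ).obj.map (homOfLE hWU).op).hom s = 0 := Subtype.ext (funext fun y => by
    obtain ⟨z, hz, hzy⟩ := y.2
    show s.1 ⟨y.1, hWU y.2⟩ = 0
    rw [show (⟨y.1, hWU y.2⟩ : U) = z from Subtype.ext hzy.symm, hc z hz]
    exact ULift.ext _ _ h0)
  exact (congrArg (gm (sh φ) x hxW) this).trans (map_zero (TopCat.Presheaf.germ (C := AddCommGrpCat.{u}) (X := X) (sh φ).obj W x hxW).hom)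

/-- A constant section. -/
def constSec {U : Opens X} (n : ℤ) (h : ∀ y ∈ U, n ∈ φ y) : (sh φ).obj.obj (op U) :=
  ⟨fun _ => ULift.up n, IsLocallyConstant.const _, fun y => h y.1 y.2⟩

lemma exists_val {φ : X → AddSubgroup ℤ} (hφ : IsSpread φ) (x : X) {n : ℤ} (hn : n ∈ φ x) :
    ∃ v, val φ x v = n := by
  obtain ⟨W, hxW, hW⟩ := hφ x n hn
  exact ⟨gm (sh φ) x hxW (constSec φ n hW), val_gm φ x hxW _⟩

variable {φ}
variable {ψ χ : X → AddSubgroup ℤ}

/-- Inclusions. -/
def inc (h : φ ≤ ψ) : sh φ ⟶ sh ψ := ⟨{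
  app := fun U => AddCommGrpCat.ofHom (AddMonoidHom.mk'
    (fun s : secs φ U.unop => (⟨s.1, s.2.1, fun x => h x.1 (s.2.2 x)⟩ : secs ψ U.unop)) fun a b => rfl)
  naturality := fun U V i => rfl }⟩

lemma inc_comp (h : φ ≤ ψ) (h' : ψ ≤ χ) : inc h ≫ inc h' = inc (h.trans h') := rfl

open CompactSub (stMap stMap_gm)

lemma val_inc (h : φ ≤ ψ) (x : X) (v : CohTop.stalk (sh φ) x) : val ψ x (stMap (inc h) x v) = val φ x v := by
  obtain ⟨U, hx, s, rfl⟩ := TopCat.Presheaf.exists_germ_eq (C := AddCommGrpCat.{u}) (X := X) (sh φ).obj v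
  show val ψ x (stMap (inc h) x (gm (sh φ) x hx s)) = _
  rw [stMap_gm, val_gm, val_gm]
  rfl

lemma stMap_injective_inc (h : φ ≤ ψ) (x : X) : Function.Injective (stMap (inc h) x) := fun a b e =>
  val_injective φ x (by rw [← val_inc h x a, ← val_inc h x b, e])

lemma mono_of_stMap {A B : CohTop.Ab X} (f : A ⟶ B) (h : ∀ x, Function.Injective (stMap f x)) : Mono f := by
  refine ⟨fun {C} a b e => ?_⟩
  refine Sheaf.hom_ext (NatTrans.ext (funext fun U => ConcreteCategory.hom_ext _ _ fun t => ?_))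
  refine TopCat.Presheaf.section_ext (C := AddCommGrpCat.{u}) (X := X) A U.unop _ _ fun x hx => ?_
  refine h x ?_
  refine (stMap_gm f x hx _).trans (Eq.trans ?_ (stMap_gm f x hx _).symm)
  exact congrArg (gm B x hx) (ConcreteCategory.congr_hom (congrArg (fun q => q.hom.app U) e) t)

instance mono_inc (h : φ ≤ ψ) : Mono (inc h) := mono_of_stMap _ (stMap_injective_inc h)

/-- The subquotient. -/
def Q (h : φ ≤ ψ) : CohTop.Ab X := cokernel (inc h)

/-- The projection. -/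
def prQ (h : φ ≤ ψ) : sh ψ ⟶ Q h := cokernel.π (inc h)

instance epi_prQ (h : φ ≤ ψ) : Epi (prQ h) := inferInstanceAs (Epi (cokernel.π _))

lemma inc_prQ (h : φ ≤ ψ) : inc h ≫ prQ h = 0 := cokernel.condition _

lemma shortExact_Q (h : φ ≤ ψ) : (ShortComplex.mk (inc h) (prQ h) (inc_prQ h)).ShortExact where
  exact := ShortComplex.exact_of_g_is_cokernel _ (cokernelIsCokernel _)

lemma stMap_comp {A B C : CohTop.Ab X} (f : A ⟶ B) (g : B ⟶ C) (x : X) (v : CohTop.stalk A x) :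
    stMap (f ≫ g) x v = stMap g x (stMap f x v) :=
  ConcreteCategory.congr_hom ((ClosedEmb.stalkF x).map_comp f g) v

lemma stMap_zero_apply (A B : CohTop.Ab X) (x : X) (v : CohTop.stalk A x) : stMap (0 : A ⟶ B) x v = 0 := by
  show ((ClosedEmb.stalkF x).map (0 : A ⟶ B)).hom v = 0
  rw [Functor.map_zero]
  rfl

lemma stMap_prQ_surjective (h : φ ≤ ψ) (x : X) : Function.Surjective (stMap (prQ h) x) := by
  have : Epi ((ClosedEmb.stalkF x).map (prQ h)) :=
    haveI := CompactSub.preservesFiniteColimits_stalkF x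
    inferInstance
  exact (AddCommGrpCat.epi_iff_surjective _).1 this

lemma stMap_prQ_eq_zero_iff (hφ : IsSpread φ) (h : φ ≤ ψ) (x : X) (v : CohTop.stalk (sh ψ) x) :
    stMap (prQ h) x v = 0 ↔ val ψ x v ∈ φ x := by
  have hex := (TopCat.Sheaf.exact_iff_stalkFunctor_map_exact _).1 (shortExact_Q h).exact x
  constructor
  · intro hv
    obtain ⟨w, hw⟩ := (ShortComplex.ab_exact_iff _).1 hex v hv
    replace hw : stMap (inc h) x w = v := hw
    rw [← hw, val_inc]
    exact val_mem φ x w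
  · intro hv
    obtain ⟨w, hw⟩ := exists_val hφ x hv
    rw [← val_injective ψ x ((val_inc h x w).trans hw), ← stMap_comp, inc_prQ, stMap_zero_apply]

end Groth.Agent.Vanishing
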