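import Groth.Agent.SiteBase.Vanishing.Subquot
import Groth.Prelude.Def_CohCx
import Mathlib.Algebra.Category.Grp.Adjunctions
import Mathlib.CategoryTheory.Sites.LocallyBijective

/-!
# The free abelian sheaf on an open set is the constant sheaf extended by zero
-/

set_option autoImplicit false
set_option linter.unusedSectionVars false
set_option backward.isDefEq.respectTransparency false

universe u

open CategoryTheory CategoryTheory.Limits Opposite TopologicalSpace
open Groth.Agent.DescentSS.Germ (gm gm_res)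
open Groth.Agent.CompactSub (stMap stMap_gm)

noncomputable section

namespace Groth.Agent.Vanishing

variable {X : TopCat.{u}} (U : Opens X)

/-- The free presheaf. -/
abbrev freePre : (Opens X)ᵒᵖ ⥤ AddCommGrpCat.{u} := yoneda.obj U ⋙ AddCommGrpCat.free.{u}

lemma mem_ind_top {V : Opens X} (h : V ⟶ U) (y : X) (hy : y ∈ V) : (1 : ℤ) ∈ ind U ⊤ y := by
  rw [ind_mem (h.le hy)]; exact AddSubgroup.mem_top _

/-- Generators go to the constant one. -/
def toInd : freePre U ⟶ (sh (ind U ⊤)).obj where
  app V := AddCommGrpCat.ofHom (FreeAbelianGroup.lift fun h : V.unop ⟶ U => constSec (ind U ⊤) 1 (mem_ind_top U h))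
  naturality V W k := by
    refine AddCommGrpCat.hom_ext (FreeAbelianGroup.lift_ext _ _ fun h => ?_)
    show (FreeAbelianGroup.lift _) ((freePre U).map k (FreeAbelianGroup.of h)) =
      ((sh (ind U ⊤)).obj.map k).hom (FreeAbelianGroup.lift _ (FreeAbelianGroup.of h))
    rw [FreeAbelianGroup.lift_apply_of]
    exact (congrArg (FreeAbelianGroup.lift _) (FreeAbelianGroup.map_of_apply h)).trans
      ((FreeAbelianGroup.lift_apply_of _ _).trans rfl)

lemma exists_zsmul_of (V : Opens X) (a : FreeAbelianGroup (V ⟶ U)) :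
    a = 0 ∨ ∃ (h : V ⟶ U) (k : ℤ), a = k • FreeAbelianGroup.of h := by
  by_cases hh : Nonempty (V ⟶ U)
  · obtain ⟨h⟩ := hh
    refine Or.inr ⟨h, ?_⟩
    induction a using FreeAbelianGroup.induction_on with
    | zero => exact ⟨0, (zero_zsmul _).symm⟩
    | of h' => exact ⟨1, by rw [one_zsmul, Subsingleton.elim h' h]⟩
    | neg h' _ => exact ⟨-1, by rw [neg_one_zsmul, Subsingleton.elim h' h]⟩
    | add a b ha hb =>
      obtain ⟨k, rfl⟩ := ha
      obtain ⟨l, rfl⟩ := hb
      exact ⟨k + l, (add_zsmul _ k l).symm⟩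
  · refine Or.inl ?_
    induction a using FreeAbelianGroup.induction_on with
    | zero => rfl
    | of h' => exact absurd ⟨h'⟩ hh
    | neg h' _ => exact absurd ⟨h'⟩ hh
    | add a b ha hb => rw [ha, hb, add_zero]

lemma toInd_zsmul {V : (Opens X)ᵒᵖ} (h : V.unop ⟶ U) (k : ℤ) (y : V.unop) :
    ((((toInd U).app V).hom (k • FreeAbelianGroup.of h : FreeAbelianGroup (V.unop ⟶ U))).1 y).down = k := by
  show ((FreeAbelianGroup.lift (fun h : V.unop ⟶ U => constSec (ind U ⊤) 1 (mem_ind_top U h))
    (k • FreeAbelianGroup.of h)).1 y).down = k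
  rw [map_zsmul, FreeAbelianGroup.lift_apply_of]
  show (k • ULift.up.{u} (1 : ℤ)).down = k
  simp

instance : Presheaf.IsLocallyInjective (Opens.grothendieckTopology X) (toInd U) where
  equalizerSieve_mem := fun {V} a b hab x hx => by
    refine ⟨V.unop, 𝟙 _, ?_, hx⟩
    show (freePre U).map (𝟙 V.unop).op a = (freePre U).map (𝟙 V.unop).op b
    rw [op_id, CategoryTheory.Functor.map_id]
    show a = b
    rw [← sub_eq_zero]
    rcases exists_zsmul_of U V.unop (show FreeAbelianGroup (V.unop ⟶ U) from a - b) with h0 | ⟨h, k, hk⟩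
    · exact h0
    · have h1 := toInd_zsmul U h k ⟨x, hx⟩
      rw [← hk] at h1
      have h2 : (((toInd U).app V).hom (a - b)) = 0 := by rw [map_sub, sub_eq_zero]; exact hab
      have h3 : (((toInd U).app V).hom (a - b)).1 ⟨x, hx⟩ = 0 := by rw [h2]; rfl
      obtain rfl : k = 0 := h1.symm.trans (congrArg ULift.down h3)
      exact hk.trans (zero_zsmul _)

instance : Presheaf.IsLocallySurjective (Opens.grothendieckTopology X) (toInd U) where
  imageSieve_mem {V} s := fun x hx => by
    obtain ⟨O, hO, hxO, hc⟩ := (IsLocallyConstant.iff_exists_open _).1 s.2.1 ⟨x, hx⟩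
    let W : Opens X := ⟨Subtype.val '' O, V.2.isOpenMap_subtype_val O hO⟩
    have hWV : W ≤ V := by rintro _ ⟨z, -, rfl⟩; exact z.2
    have hW : ∀ y (hy : y ∈ W), s.1 ⟨y, hWV hy⟩ = s.1 ⟨x, hx⟩ := by
      rintro _ ⟨z, hz, rfl⟩
      exact hc z hz
    by_cases h0 : (s.1 ⟨x, hx⟩).down = 0
    · refine ⟨W, homOfLE hWV, ⟨0, ?_⟩, ⟨_, hxO, rfl⟩⟩
      rw [map_zero]
      exact Subtype.ext (funext fun y => ((hW y.1 y.2).trans (ULift.ext _ _ h0)).symm)
    · have hxU : x ∈ U := by
        by_contra hxU
        refine h0 (AddSubgroup.mem_bot.1 ?_)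
        have := s.2.2 ⟨x, hx⟩
        rwa [ind_notMem hxU] at this
      refine ⟨W ⊓ U, homOfLE (inf_le_left.trans hWV),
        ⟨((s.1 ⟨x, hx⟩).down • FreeAbelianGroup.of (homOfLE (inf_le_right : W ⊓ U ≤ U)) :
          FreeAbelianGroup (W ⊓ U ⟶ U)), ?_⟩, ⟨⟨_, hxO, rfl⟩, hxU⟩⟩
      refine Subtype.ext (funext fun y => ULift.ext _ _ ?_)
      refine (toInd_zsmul U (V := op (W ⊓ U)) (homOfLE inf_le_right) _ y).trans ?_
      exact congrArg ULift.down (hW y.1 y.2.1).symm

/-- The free sheaf is the constant sheaf extended by zero. -/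
def freeIso : CohCx.freeSheaf (Opens.grothendieckTopology X) U ≅ sh (ind U ⊤) :=
  (@asIso _ _ _ _ ((presheafToSheaf (Opens.grothendieckTopology X) AddCommGrpCat.{u}).map (toInd U))
    (((Opens.grothendieckTopology X).W_iff _).1
      (GrothendieckTopology.W_of_isLocallyBijective (J := Opens.grothendieckTopology X) (toInd U)))) ≪≫
    (sheafificationIso (sh (ind U ⊤))).symm

/-- Sections over an open are values of morphisms. -/
theorem exists_gen (F : CohTop.Ab X) {V : Opens X} (t : F.obj.obj (op V)) :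
    ∃ g : sh (ind V ⊤) ⟶ F, ∀ x (hx : x ∈ V), ∃ w, stMap g x w = gm F x hx t := by
  let J := Opens.grothendieckTopology X
  let lam : freePre V ⟶ F.obj :=
    { app := fun W => AddCommGrpCat.ofHom (FreeAbelianGroup.lift fun h : W.unop ⟶ V => (F.obj.map h.op).hom t)
      naturality := fun W W' k => by
        refine AddCommGrpCat.hom_ext (FreeAbelianGroup.lift_ext _ _ fun h => ?_)
        show (FreeAbelianGroup.lift _) ((freePre V).map k (FreeAbelianGroup.of h)) =
          (F.obj.map k).hom (FreeAbelianGroup.lift _ (FreeAbelianGroup.of h))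
        rw [FreeAbelianGroup.lift_apply_of]
        refine (congrArg (FreeAbelianGroup.lift _) (FreeAbelianGroup.map_of_apply h)).trans
          ((FreeAbelianGroup.lift_apply_of _ _).trans ?_)
        exact ConcreteCategory.congr_hom (F.obj.map_comp h.op k) t }
  let η := (CategoryTheory.toSheafify J (freePre V))
  let L : CohCx.freeSheaf J V ⟶ F := ⟨CategoryTheory.sheafifyLift J lam F.property⟩
  let o : (freePre V).obj (op V) := FreeAbelianGroup.of (𝟙 V)
  let t₀ : (CohCx.freeSheaf J V).obj.obj (op V) := (η.app (op V)).hom o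
  refine ⟨(freeIso V).inv ≫ L, fun x hx => ⟨gm (sh (ind V ⊤)) x hx (((freeIso V).hom.hom.app (op V)).hom t₀), ?_⟩⟩
  refine (stMap_gm _ x hx _).trans (congrArg (gm F x hx) ?_)
  refine Eq.trans ?_ ((ConcreteCategory.congr_hom (congrArg (fun q => q.app (op V))
    (CategoryTheory.toSheafify_sheafifyLift J lam F.property)) o).trans ?_)
  · show (L.hom.app (op V)).hom (((freeIso V).inv.hom.app (op V)).hom (((freeIso V).hom.hom.app (op V)).hom t₀)) = _
    exact congrArg (L.hom.app (op V)).hom
      (ConcreteCategory.congr_hom (congrArg (fun q => q.hom.app (op V)) (freeIso V).hom_inv_id) t₀)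
  · show FreeAbelianGroup.lift _ (FreeAbelianGroup.of (𝟙 V)) = t
    rw [FreeAbelianGroup.lift_apply_of]
    exact ConcreteCategory.congr_hom (F.obj.map_id (op V)) t

end Groth.Agent.Vanishing
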