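import Groth.Agent.SiteBase.Vanishing.ConstSub
import Mathlib.Algebra.Homology.DerivedCategory.Ext.ExactSequences

/-!
# Exact sequences of subquotients of the constant sheaf, and vanishing of their cohomology
-/

set_option autoImplicit false
set_option linter.unusedSectionVars false
set_option backward.isDefEq.respectTransparency false

universe u

open CategoryTheory CategoryTheory.Limits Opposite TopologicalSpace
open Groth.Agent.DescentSS.Germ (gm gm_res)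
open Groth.Agent.CompactSub (stMap stMap_gm)

noncomputable section

namespace Groth.Agent.Vanishing

variable {X : TopCat.{u}}

/-- Vanishing of cohomology above a degree. -/
def VanishAbove (F : CohTop.Ab X) (d : ℕ) : Prop := ∀ p, d < p → Subsingleton (CohTop.H F p)

section LES

variable {S : ShortComplex (CohTop.Ab X)} (hS : S.ShortExact) (d : ℕ)

include hS

lemma subsingleton_X₂ (p : ℕ) (h₁ : Subsingleton (CohTop.H S.X₁ p)) (h₃ : Subsingleton (CohTop.H S.X₃ p)) :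
    Subsingleton (CohTop.H S.X₂ p) := by
  refine subsingleton_of_forall_eq 0 fun x => ?_
  obtain ⟨y, hy⟩ := Abelian.Ext.covariant_sequence_exact₂ _ hS x (h₃.elim _ _)
  rw [← hy, h₁.elim y 0, Abelian.Ext.zero_comp]

lemma subsingleton_X₁ (p : ℕ) (h₃ : Subsingleton (CohTop.H S.X₃ p)) (h₂ : Subsingleton (CohTop.H S.X₂ (p + 1))) :
    Subsingleton (CohTop.H S.X₁ (p + 1)) := by
  refine subsingleton_of_forall_eq 0 fun x => ?_
  obtain ⟨y, hy⟩ := Abelian.Ext.covariant_sequence_exact₁ _ hS x (h₂.elim _ _) (rfl : p + 1 = p + 1)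
  rw [← hy, h₃.elim y 0, Abelian.Ext.zero_comp]

lemma subsingleton_X₃ (p : ℕ) (h₂ : Subsingleton (CohTop.H S.X₂ p)) (h₁ : Subsingleton (CohTop.H S.X₁ (p + 1))) :
    Subsingleton (CohTop.H S.X₃ p) := by
  refine subsingleton_of_forall_eq 0 fun x => ?_
  obtain ⟨y, hy⟩ := Abelian.Ext.covariant_sequence_exact₃ _ hS x (rfl : p + 1 = p + 1) (h₁.elim _ _)
  rw [← hy, h₂.elim y 0, Abelian.Ext.zero_comp]

lemma vanishAbove_X₂ (h₁ : VanishAbove S.X₁ d) (h₃ : VanishAbove S.X₃ d) : VanishAbove S.X₂ d :=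
  fun p hp => subsingleton_X₂ hS p (h₁ p hp) (h₃ p hp)

lemma vanishAbove_X₃ (h₂ : VanishAbove S.X₂ d) (h₁ : VanishAbove S.X₁ d) : VanishAbove S.X₃ d :=
  fun p hp => subsingleton_X₃ hS p (h₂ p hp) (h₁ (p + 1) (hp.trans (Nat.lt_succ_self p)))

end LES

lemma VanishAbove.of_iso {F G : CohTop.Ab X} {d : ℕ} (e : F ≅ G) (h : VanishAbove F d) : VanishAbove G d :=
  fun p hp => by
    refine subsingleton_of_forall_eq 0 fun (x : CohTop.H G p) => ?_
    have h0 : x.comp (Abelian.Ext.mk₀ e.inv) (add_zero p) = 0 := (h p hp).elim _ _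
    rw [← Abelian.Ext.comp_mk₀_id x, ← e.inv_hom_id, ← Abelian.Ext.mk₀_comp_mk₀,
      ← Abelian.Ext.comp_assoc_of_third_deg_zero, h0, Abelian.Ext.zero_comp]

lemma VanishAbove.of_isZero {F : CohTop.Ab X} (d : ℕ) (h : IsZero F) : VanishAbove F d := fun p _ => by
  refine subsingleton_of_forall_eq 0 fun (x : CohTop.H F p) => ?_
  rw [← Abelian.Ext.comp_mk₀_id x, h.eq_of_src (𝟙 F) 0, Abelian.Ext.mk₀_zero, Abelian.Ext.comp_zero]

lemma isIso_of_stalkMap {A B : CohTop.Ab X} (f : A ⟶ B) (h : ∀ x, IsIso ((ClosedEmb.stalkF x).map f)) :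
    IsIso f := by
  have : ∀ x : X, IsIso ((TopCat.Presheaf.stalkFunctor AddCommGrpCat.{u} x).map f.1) := h
  exact TopCat.Presheaf.isIso_of_stalkFunctor_map_iso f

/-- Exactness of short complexes of sheaves from values on stalks. -/
lemma shortExact_of_stMap (S : ShortComplex (CohTop.Ab X)) (hm : ∀ x, Function.Injective (stMap S.f x))
    (he : ∀ x, Function.Surjective (stMap S.g x))
    (hx : ∀ x v, stMap S.g x v = 0 → ∃ w, stMap S.f x w = v) : S.ShortExact where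
  exact := (TopCat.Sheaf.exact_iff_stalkFunctor_map_exact S).2 fun x =>
    (ShortComplex.ab_exact_iff _).2 (hx x)
  mono_f := mono_of_stMap S.f hm
  epi_g := by
    have hex : (ShortComplex.mk S.g (0 : S.X₃ ⟶ S.X₃) comp_zero).Exact :=
      (TopCat.Sheaf.exact_iff_stalkFunctor_map_exact _).2 fun x =>
        (ShortComplex.ab_exact_iff _).2 fun v _ => he x v
    exact hex.epi_f rfl

variable {φ ψ φ' ψ' χ : X → AddSubgroup ℤ}

/-- The map of subquotients. -/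
def qMap (h : φ ≤ ψ) (h' : φ' ≤ ψ') (hφ : φ ≤ φ') (hψ : ψ ≤ ψ') : Q h ⟶ Q h' :=
  cokernel.desc _ (inc hψ ≫ prQ h') (by
    rw [← Category.assoc, inc_comp, ← inc_comp hφ h', Category.assoc, inc_prQ, comp_zero])

lemma prQ_qMap (h : φ ≤ ψ) (h' : φ' ≤ ψ') (hφ : φ ≤ φ') (hψ : ψ ≤ ψ') :
    prQ h ≫ qMap h h' hφ hψ = inc hψ ≫ prQ h' := cokernel.π_desc _ _ _

lemma stMap_qMap (h : φ ≤ ψ) (h' : φ' ≤ ψ') (hφ : φ ≤ φ') (hψ : ψ ≤ ψ') (x : X) (v : CohTop.stalk (sh ψ) x) :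
    stMap (qMap h h' hφ hψ) x (stMap (prQ h) x v) = stMap (prQ h') x (stMap (inc hψ) x v) := by
  rw [← stMap_comp, prQ_qMap, stMap_comp]

/-- Two subquotients with the same stalks are isomorphic. -/
theorem isIso_qMap (hφ0 : IsSpread φ) (hφ'0 : IsSpread φ') (hψ0 : IsSpread ψ)
    (h : φ ≤ ψ) (h' : φ' ≤ ψ') (hφ : φ ≤ φ') (hψ : ψ ≤ ψ')
    (hinj : ∀ x, ψ x ⊓ φ' x ≤ φ x) (hsurj : ∀ x, ψ' x ≤ ψ x ⊔ φ' x) : IsIso (qMap h h' hφ hψ) := by
  have : ∀ x, IsIso ((ClosedEmb.stalkF x).map (qMap h h' hφ hψ)) := fun x => by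
    rw [ConcreteCategory.isIso_iff_bijective]
    refine ⟨(injective_iff_map_eq_zero (stMap (qMap h h' hφ hψ) x)).2 fun c hc => ?_, fun c => ?_⟩
    · obtain ⟨v, rfl⟩ := stMap_prQ_surjective h x c
      rw [stMap_qMap, stMap_prQ_eq_zero_iff hφ'0, val_inc] at hc
      exact (stMap_prQ_eq_zero_iff hφ0 h x v).2 (hinj x ⟨val_mem ψ x v, hc⟩)
    · obtain ⟨v, rfl⟩ := stMap_prQ_surjective h' x c
      obtain ⟨a, ha, b, hb, hab⟩ := AddSubgroup.mem_sup.1 (hsurj x (val_mem ψ' x v))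
      obtain ⟨w, hw⟩ := exists_val hψ0 x ha
      refine ⟨stMap (prQ h) x w, (stMap_qMap h h' hφ hψ x w).trans (sub_eq_zero.1 ?_).symm⟩
      rw [← map_sub, stMap_prQ_eq_zero_iff hφ'0, map_sub, val_inc, hw, ← hab, add_sub_cancel_left]
      exact hb
  exact isIso_of_stalkMap _ this

/-- The sequence of subquotients of a chain. -/
theorem shortExact_qMap (hφ0 : IsSpread φ) (hψ0 : IsSpread ψ) (hχ0 : IsSpread χ) (h : φ ≤ ψ) (h' : ψ ≤ χ) :
    ∃ w : qMap h (h.trans h') le_rfl h' ≫ qMap (h.trans h') h' h le_rfl = 0,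
      (ShortComplex.mk (qMap h (h.trans h') le_rfl h') (qMap (h.trans h') h' h le_rfl) w).ShortExact := by
  have w : qMap h (h.trans h') le_rfl h' ≫ qMap (h.trans h') h' h le_rfl = 0 := by
    rw [← cancel_epi (prQ h), ← Category.assoc, prQ_qMap, Category.assoc, prQ_qMap, ← Category.assoc, inc_comp,
      inc_prQ, comp_zero]
  refine ⟨w, shortExact_of_stMap _ (fun x => ?_) (fun x c => ?_) fun x c hc => ?_⟩
  · refine (injective_iff_map_eq_zero (stMap (qMap h (h.trans h') le_rfl h') x)).2 fun c hc => ?_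
    obtain ⟨v, rfl⟩ := stMap_prQ_surjective h x c
    rw [stMap_qMap, stMap_prQ_eq_zero_iff hφ0, val_inc] at hc
    exact (stMap_prQ_eq_zero_iff hφ0 h x v).2 hc
  · obtain ⟨v, rfl⟩ := stMap_prQ_surjective h' x c
    obtain ⟨w', hw'⟩ := exists_val hχ0 x (val_mem χ x v)
    refine ⟨stMap (prQ (h.trans h')) x w', (stMap_qMap (h.trans h') h' h le_rfl x w').trans (congrArg (stMap (prQ h') x) ?_)⟩
    exact val_injective χ x ((val_inc le_rfl x w').trans hw')
  · obtain ⟨v, rfl⟩ := stMap_prQ_surjective (h.trans h') x c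
    change stMap (qMap (h.trans h') h' h le_rfl) x (stMap (prQ (h.trans h')) x v) = 0 at hc
    rw [stMap_qMap, stMap_prQ_eq_zero_iff hψ0, val_inc] at hc
    obtain ⟨a, ha⟩ := exists_val hψ0 x hc
    refine ⟨stMap (prQ h) x a, (stMap_qMap h (h.trans h') le_rfl h' x a).trans (congrArg (stMap (prQ (h.trans h')) x) ?_)⟩
    exact val_injective χ x ((val_inc h' x a).trans ha)

variable {d : ℕ}

lemma vanishAbove_Q_congr {h : φ ≤ ψ} {φ₁ ψ₁ : X → AddSubgroup ℤ} {h₁ : φ₁ ≤ ψ₁} (eφ : φ = φ₁) (eψ : ψ = ψ₁)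
    (hv : VanishAbove (Q h) d) : VanishAbove (Q h₁) d := by
  subst eφ eψ; exact hv

/-- Vanishing for the middle of a chain. -/
theorem vanishAbove_Q_trans (hφ0 : IsSpread φ) (hψ0 : IsSpread ψ) (hχ0 : IsSpread χ) (h : φ ≤ ψ) (h' : ψ ≤ χ)
    (h₁ : VanishAbove (Q h) d) (h₂ : VanishAbove (Q h') d) : VanishAbove (Q (h.trans h')) d := by
  obtain ⟨w, hw⟩ := shortExact_qMap hφ0 hψ0 hχ0 h h'
  exact vanishAbove_X₂ hw d h₁ h₂

/-- Transfer of vanishing between subquotients with the same stalks. -/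
theorem vanishAbove_Q_of_stalks (hφ0 : IsSpread φ) (hφ'0 : IsSpread φ') (hψ0 : IsSpread ψ)
    (h : φ ≤ ψ) (h' : φ' ≤ ψ') (hφ : φ ≤ φ') (hψ : ψ ≤ ψ')
    (hinj : ∀ x, ψ x ⊓ φ' x ≤ φ x) (hsurj : ∀ x, ψ' x ≤ ψ x ⊔ φ' x) (hv : VanishAbove (Q h) d) :
    VanishAbove (Q h') d :=
  haveI := isIso_qMap hφ0 hφ'0 hψ0 h h' hφ hψ hinj hsurj
  hv.of_iso (asIso (qMap h h' hφ hψ))

section Ind

open Classical in
/-- A subgroup on an open, zero outside. -/
def ind (U : Opens X) (A : AddSubgroup ℤ) : X → AddSubgroup ℤ := fun x => if x ∈ U then A else ⊥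

lemma ind_mem {U : Opens X} {A : AddSubgroup ℤ} {x : X} (hx : x ∈ U) : ind U A x = A := if_pos hx

lemma ind_notMem {U : Opens X} {A : AddSubgroup ℤ} {x : X} (hx : x ∉ U) : ind U A x = ⊥ := if_neg hx

lemma ind_le_ind {U V : Opens X} {A B : AddSubgroup ℤ} (h : U ≤ V) (h' : A ≤ B) : ind U A ≤ ind V B := fun x => by
  by_cases hx : x ∈ U
  · rw [ind_mem hx, ind_mem (h hx)]; exact h'
  · rw [ind_notMem hx]; exact bot_le

lemma isSpread_ind (U : Opens X) (A : AddSubgroup ℤ) : IsSpread (ind U A) := fun x n hn => by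
  by_cases hx : x ∈ U
  · exact ⟨U, hx, fun y hy => by rw [ind_mem hy]; rwa [ind_mem hx] at hn⟩
  · rw [ind_notMem hx] at hn
    exact ⟨⊤, trivial, fun y _ => (AddSubgroup.mem_bot.1 hn).symm ▸ zero_mem _⟩

lemma isSpread_bot : IsSpread (⊥ : X → AddSubgroup ℤ) := fun x n hn =>
  ⟨⊤, trivial, fun y _ => hn⟩

lemma IsSpread.sup {φ ψ : X → AddSubgroup ℤ} (hφ : IsSpread φ) (hψ : IsSpread ψ) : IsSpread (φ ⊔ ψ) :=
  fun x n hn => by
    obtain ⟨a, ha, b, hb, rfl⟩ := AddSubgroup.mem_sup.1 hn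
    obtain ⟨W, hW, hWa⟩ := hφ x a ha
    obtain ⟨W', hW', hWb⟩ := hψ x b hb
    exact ⟨W ⊓ W', ⟨hW, hW'⟩, fun y hy => add_mem (SetLike.le_def.1 le_sup_left (hWa y hy.1))
      (SetLike.le_def.1 le_sup_right (hWb y hy.2))⟩

lemma ind_bot_open (A : AddSubgroup ℤ) : ind (⊥ : Opens X) A = ⊥ := funext fun x => ind_notMem (fun h => h.elim)

end Ind

/-- Subquotients with trivial stalks vanish. -/
theorem isZero_Q (hφ0 : IsSpread φ) (h : φ ≤ ψ) (h' : ψ ≤ φ) : IsZero (Q h) := by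
  have : IsIso (inc h) := by
    have : ∀ x, IsIso ((ClosedEmb.stalkF x).map (inc h)) := fun x => by
      rw [ConcreteCategory.isIso_iff_bijective]
      refine ⟨stMap_injective_inc h x, fun v => ?_⟩
      obtain ⟨w, hw⟩ := exists_val hφ0 x (h' x (val_mem ψ x v))
      exact ⟨w, val_injective ψ x ((val_inc h x w).trans hw)⟩
    exact isIso_of_stalkMap _ this
  exact isZero_cokernel_of_epi (inc h)

end Groth.Agent.Vanishing
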